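import Groth.Agent.Grp57.PowEtale
import Groth.Agent.EGA73.CurveVal
import Groth.Agent.Alb96.GeomInt
import Groth.Agent.AbSch7.SmoothFib
import Groth.Agent.Unr55.UnrQF
import Mathlib.AlgebraicGeometry.ZariskisMainTheorem

/-!
A morphism of smooth group schemes preserving the unit is etale near it iff it is injective on
tangent vectors; sums of homomorphisms of elliptic curves.
-/

set_option autoImplicit false
set_option backward.isDefEq.respectTransparency.types false
set_option linter.style.haveILetI false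

noncomputable section

universe u

open CategoryTheory MonoidalCategory CartesianMonoidalCategory MonObj GrpObj AlgebraicGeometry
open CategoryTheory.Limits IsLocalRing TrivSqZeroExt
open Groth.Agent.Grp57

namespace Groth.Agent.EllEt95

variable {K : Type u} [Field K]

local notation "pT" => Over.mk (Spec.map (Tangent.base (K := K) K))

variable {G H : Over (Spec (CommRingCat.of K))} [GrpObj G] [GrpObj H]

/-- `f` kills no nonzero tangent vector at the unit. -/
def InjTan (f : G ⟶ H) : Prop := ∀ ℓ : Tangent.Tan G K, ℓ.pt ≫ f = 1 → ℓ = Tangent.Tan.zero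

theorem ker_evalMap (G : Over (Spec (CommRingCat.of K))) [GrpObj G] :
    RingHom.ker (Cartier57.evalMap G).hom = maximalIdeal (G.left.presheaf.stalk (unitPt G)) :=
  IsLocalRing.eq_maximalIdeal (RingHom.ker_isMaximal_of_surjective _
    fun c => ⟨Cartier57.strMap G c, Tangent.ev_str G c⟩)

theorem map_unitPt {f : G ⟶ H} (he : η[G] ≫ f = η[H]) : f.left (unitPt G) = unitPt H :=
  congr(($he).left (closedPoint K))

/-- the local form of `f` at the unit -/
theorem exists_localForm {f : G ⟶ H} (he : η[G] ≫ f = η[H]) :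
    ∃ (σ : H.left.presheaf.stalk (unitPt H) ≅ H.left.presheaf.stalk (f.left (unitPt G)))
      (φ : H.left.presheaf.stalk (unitPt H) ⟶ G.left.presheaf.stalk (unitPt G)),
      φ = σ.hom ≫ f.left.stalkMap (unitPt G) ∧
      (∀ a, Cartier57.evalMap G (φ a) = Cartier57.evalMap H a) ∧
      (∀ c, φ (Cartier57.strMap H c) = Cartier57.strMap G c) ∧
      Spec.map φ ≫ H.left.fromSpecStalk (unitPt H) = G.left.fromSpecStalk (unitPt G) ≫ f.left := by
  have h := map_unitPt he
  let σ : H.left.presheaf.stalk (unitPt H) ≅ H.left.presheaf.stalk (f.left (unitPt G)) :=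
    ⟨H.left.presheaf.stalkSpecializes (specializes_of_eq h),
      H.left.presheaf.stalkSpecializes (specializes_of_eq h.symm),
      by rw [TopCat.Presheaf.stalkSpecializes_comp]; exact TopCat.Presheaf.stalkSpecializes_refl _ _,
      by rw [TopCat.Presheaf.stalkSpecializes_comp]; exact TopCat.Presheaf.stalkSpecializes_refl _ _⟩
  let φ := σ.hom ≫ f.left.stalkMap (unitPt G)
  have hφ : Spec.map φ ≫ H.left.fromSpecStalk (unitPt H) = G.left.fromSpecStalk (unitPt G) ≫ f.left := by
    rw [Spec.map_comp, Category.assoc, Scheme.SpecMap_stalkSpecializes_fromSpecStalk,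
      Scheme.SpecMap_stalkMap_fromSpecStalk]
  have hev : φ ≫ Cartier57.evalMap G = Cartier57.evalMap H := Cartier57.eq_of_specMap_comp (by
    rw [Spec.map_comp, Category.assoc, hφ, ← Category.assoc, Cartier57.evalMap_spec,
      Cartier57.evalMap_spec]
    exact congrArg CommaMorphism.left he)
  have hstr : Cartier57.strMap H ≫ φ = Cartier57.strMap G := by
    apply Spec.map_injective
    rw [Spec.map_comp, Cartier57.strMap, Cartier57.strMap, Spec.map_preimage, Spec.map_preimage,
      ← Category.assoc, hφ, Category.assoc]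
    congr 1
    exact Over.w _
  exact ⟨σ, φ, rfl, fun a => congr($hev a), fun c => congr($hstr c), hφ⟩

/-- the image of a tangent vector -/
theorem exists_push {f : G ⟶ H} (φ : H.left.presheaf.stalk (unitPt H) ⟶ G.left.presheaf.stalk (unitPt G))
    (hev : ∀ a, Cartier57.evalMap G (φ a) = Cartier57.evalMap H a)
    (hstr : ∀ c, φ (Cartier57.strMap H c) = Cartier57.strMap G c)
    (hφ : Spec.map φ ≫ H.left.fromSpecStalk (unitPt H) = G.left.fromSpecStalk (unitPt G) ≫ f.left)
    (ℓ : Tangent.Tan G K) :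
    ∃ m : Tangent.Tan H K, ℓ.pt ≫ f = m.pt ∧ ∀ a, m.toFun a = ℓ.toFun (φ a) := by
  let m : Tangent.Tan H K := ⟨fun a => ℓ.toFun (φ a), fun a b => by rw [map_add, ℓ.map_add],
    fun a b => by rw [map_mul, ℓ.map_mul, hev, hev], fun c => by rw [hstr, ℓ.map_const]⟩
  refine ⟨m, ?_, fun a => rfl⟩
  apply Over.OverMorphism.ext
  show (Spec.map ℓ.hom ≫ _) ≫ _ = Spec.map m.hom ≫ _
  rw [Category.assoc, ← hφ, ← Category.assoc, ← Spec.map_comp]
  congr 2
  refine CommRingCat.hom_ext (RingHom.ext fun a => TrivSqZeroExt.ext ?_ ?_)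
  · show (ℓ.hom (φ a)).fst = (m.hom a).fst
    rw [Tangent.fst_hom, Tangent.fst_hom]; exact hev a
  · show (ℓ.hom (φ a)).snd = (m.hom a).snd
    rw [Tangent.snd_hom, Tangent.snd_hom]

theorem exists_etale_of_injTan [LocallyOfFiniteType G.hom] [Smooth G.hom]
    [LocallyOfFiniteType H.hom] [Smooth H.hom] {f : G ⟶ H} (he : η[G] ≫ f = η[H])
    (hdim : ringKrullDim (G.left.presheaf.stalk (unitPt G)) =
      ringKrullDim (H.left.presheaf.stalk (unitPt H)))
    (hf : InjTan f) : ∃ U : G.left.Opens, unitPt G ∈ U ∧ Etale (U.ι ≫ f.left) := by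
  haveI : LocallyOfFiniteType f.left :=
    haveI : LocallyOfFiniteType (f.left ≫ H.hom) := by rw [Over.w]; infer_instance
    locallyOfFiniteType_of_comp f.left H.hom
  haveI := LocallyOfFiniteType.isLocallyNoetherian G.hom
  haveI := LocallyOfFiniteType.isLocallyNoetherian H.hom
  haveI : LocallyOfFinitePresentation f.left :=
    LocallyOfFinitePresentation.iff_locallyOfFiniteType.2 inferInstance
  refine (Unr55.exists_etale_iff _ _).2 ?_
  obtain ⟨σ, φ, hφdef, hev, hstr, hφ⟩ := exists_localForm he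
  let O := G.left.presheaf.stalk (unitPt G)
  let P := H.left.presheaf.stalk (f.left (unitPt G))
  haveI : IsRegularLocalRing O := (regular_unit_iff G).2 inferInstance
  haveI : IsRegularLocalRing (H.left.presheaf.stalk (unitPt H)) := (regular_unit_iff H).2 inferInstance
  haveI : IsRegularLocalRing P := IsRegularLocalRing.of_ringEquiv σ.commRingCatIsoToRingEquiv
  have hσmax : (maximalIdeal (H.left.presheaf.stalk (unitPt H))).map σ.hom.hom = maximalIdeal P :=
    IsLocalRing.map_ringEquiv_maximalIdeal σ.commRingCatIsoToRingEquiv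
  letI : Algebra K O := (Cartier57.strMap G).hom.toAlgebra
  let str := Cartier57.strMap G
  let ev := Cartier57.evalMap G
  have hker := ker_evalMap G
  have hres : ∀ a, a - str (ev a) ∈ maximalIdeal O := fun a => by
    rw [← hker, RingHom.mem_ker, map_sub, Tangent.ev_str, sub_self]
  have hle : (maximalIdeal (H.left.presheaf.stalk (unitPt H))).map φ.hom ≤ maximalIdeal O := by
    rw [Ideal.map_le_iff_le_comap]
    intro a ha
    rw [Ideal.mem_comap, ← hker, RingHom.mem_ker]
    rw [← ker_evalMap H, RingHom.mem_ker] at ha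
    exact (hev a).trans ha
  have hmax : (maximalIdeal (H.left.presheaf.stalk (unitPt H))).map φ.hom = maximalIdeal O := by
    refine le_antisymm hle ?_
    suffices h1 : maximalIdeal O ≤ (maximalIdeal (H.left.presheaf.stalk (unitPt H))).map φ.hom ⊔
        maximalIdeal O • maximalIdeal O from
      Submodule.le_of_le_smul_of_le_jacobson_bot (maximalIdeal O).fg_of_isNoetherianRing
        (maximalIdeal_le_jacobson _) h1
    intro x hx
    by_contra hx'
    let J : Submodule K O := ((maximalIdeal (H.left.presheaf.stalk (unitPt H))).map φ.hom ⊔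
      maximalIdeal O • maximalIdeal O).restrictScalars K
    obtain ⟨g, hgx, hgJ⟩ := Submodule.exists_dual_map_eq_bot_of_notMem (p := J) hx' inferInstance
    have hg0 : ∀ y ∈ J, g y = 0 := fun y hy => by
      have : g y ∈ J.map g := ⟨y, hy, rfl⟩
      rwa [hgJ, Submodule.mem_bot] at this
    let ℓ : Tangent.Tan G K :=
      { toFun := fun a => g (a - str (ev a))
        map_add := fun a b => by
          rw [← g.map_add]; congr 1; simp only [map_add]; ring
        map_mul := fun a b => by
          set a' := a - str (ev a)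
          set b' := b - str (ev b)
          have h0 : g (a' * b') = 0 :=
            hg0 _ (Submodule.mem_sup_right (Submodule.smul_mem_smul (hres a) (hres b)))
          have e : a * b - str (ev (a * b)) =
              (show K from ev a) • b' + (show K from ev b) • a' + a' * b' := by
            simp only [Algebra.smul_def, a', b', map_mul]
            show _ = str (ev a) * _ + str (ev b) * _ + _
            ring
          rw [e, g.map_add, g.map_add, h0, add_zero, g.map_smul, g.map_smul]
        map_const := fun c => by rw [Tangent.ev_str, sub_self, g.map_zero] }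
    have hev0 : ∀ y, y ∈ maximalIdeal O → ℓ.toFun y = g y := fun y hy => by
      show g (y - str (ev y)) = g y
      rw [← hker, RingHom.mem_ker] at hy
      rw [show (ev) y = 0 from hy]
      congr 1
      rw [show str (0 : K) = 0 from (str).hom.map_zero, sub_zero]
    obtain ⟨m, hm, hmf⟩ := exists_push φ hev hstr hφ ℓ
    have hm0 : m = Tangent.Tan.zero := by
      ext a
      show m.toFun a = 0
      let b := a - Cartier57.strMap H (Cartier57.evalMap H a)
      have hb : b ∈ maximalIdeal (H.left.presheaf.stalk (unitPt H)) := by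
        rw [← ker_evalMap H, RingHom.mem_ker, map_sub, Tangent.ev_str, sub_self]
      have e : a = b + Cartier57.strMap H (Cartier57.evalMap H a) := (sub_add_cancel _ _).symm
      rw [e, m.map_add, m.map_const, add_zero, hmf, hev0 _ (hle (Ideal.mem_map_of_mem _ hb))]
      exact hg0 _ (Submodule.mem_sup_left (Ideal.mem_map_of_mem _ hb))
    have h0 := hf ℓ (by rw [hm, hm0, Tangent.pt_zero])
    apply hgx
    rw [← hev0 x hx, h0]
    rfl
  rw [hφdef, CommRingCat.hom_comp, ← Ideal.map_map, hσmax] at hmax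
  letI : Algebra P O := (f.left.stalkMap (unitPt G)).hom.toAlgebra
  haveI : IsLocalHom (algebraMap P O) :=
    inferInstanceAs (IsLocalHom (f.left.stalkMap (unitPt G)).hom)
  haveI : Algebra.EssFiniteType P O := LocallyOfFiniteType.stalkMap f.left (unitPt G)
  refine ⟨?_, ?_⟩
  · haveI : LocCoh.IsCohenMacaulayLocalRing O := CAlg1.cm_of_isRegularLocalRing O
    refine CAlg1.miracle_flatness _ P O rfl ?_
    rw [ringKrullDim_eq_of_ringEquiv σ.commRingCatIsoToRingEquiv.symm, ← hdim]
    rw [show (maximalIdeal P).map (algebraMap _ O) = maximalIdeal O from hmax]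
    letI := Ideal.Quotient.field (maximalIdeal O)
    rw [ringKrullDim_eq_zero_of_field (O ⧸ maximalIdeal O), add_zero]
  · show Algebra.FormallyUnramified P O
    rw [Algebra.FormallyUnramified.iff_map_maximalIdeal_eq]
    refine ⟨⟨fun x => ?_⟩, hmax⟩
    obtain ⟨a, rfl⟩ := IsLocalRing.residue_surjective x
    have hx : residue O a = algebraMap (ResidueField P) (ResidueField O)
        (residue _ (σ.hom (Cartier57.strMap H (ev a)))) := by
      refine (Ideal.Quotient.mk_eq_mk_iff_sub_mem _ _).2 ?_
      show a - (σ.hom ≫ f.left.stalkMap (unitPt G)) (Cartier57.strMap H (ev a)) ∈ maximalIdeal O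
      rw [← hφdef, hstr]
      exact hres a
    rw [hx]
    exact isSeparable_algebraMap _

theorem injTan_of_etale [LocallyOfFiniteType G.hom] [LocallyOfFiniteType H.hom] {f : G ⟶ H}
    (he : η[G] ≫ f = η[H]) [Etale f.left] : InjTan f := by
  intro ℓ hℓ
  obtain ⟨σ, φ, hφdef, hev, hstr, hφ⟩ := exists_localForm he
  obtain ⟨m, hm, hmf⟩ := exists_push φ hev hstr hφ ℓ
  have hm0 : m = Tangent.Tan.zero := Tangent.pt_injective (by rw [← hm, hℓ, Tangent.pt_zero])
  let O := G.left.presheaf.stalk (unitPt G)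
  let P := H.left.presheaf.stalk (f.left (unitPt G))
  haveI := LocallyOfFiniteType.isLocallyNoetherian G.hom
  letI : Algebra P O := (f.left.stalkMap (unitPt G)).hom.toAlgebra
  haveI : IsLocalHom (algebraMap P O) :=
    inferInstanceAs (IsLocalHom (f.left.stalkMap (unitPt G)).hom)
  haveI : Algebra.EssFiniteType P O := LocallyOfFiniteType.stalkMap f.left (unitPt G)
  haveI : Algebra.FormallyUnramified P O := FormallyUnramified.stalkMap f.left (unitPt G)
  have hmax : (maximalIdeal P).map (algebraMap P O) = maximalIdeal O :=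
    Algebra.FormallyUnramified.map_maximalIdeal
  have hkill : ∀ y ∈ maximalIdeal O, ℓ.toFun y = 0 := by
    intro y hy
    rw [← hmax, Ideal.map] at hy
    induction hy using Submodule.span_induction with
    | mem y hy =>
      obtain ⟨y, -, rfl⟩ := hy
      obtain ⟨z, rfl⟩ : ∃ z, σ.hom z = y := ⟨σ.inv y, congr($(σ.inv_hom_id) y)⟩
      show ℓ.toFun ((σ.hom ≫ f.left.stalkMap (unitPt G)) z) = 0
      rw [← hφdef, ← hmf, hm0]
      rfl
    | zero => exact ℓ.map_zero
    | add y z _ _ hy hz => rw [ℓ.map_add, hy, hz, add_zero]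
    | smul c y hy' hy =>
      rw [smul_eq_mul, ℓ.map_mul, hy, smul_zero, zero_add]
      have : y ∈ RingHom.ker (Cartier57.evalMap G).hom := by
        rw [ker_evalMap, ← hmax]; exact hy'
      rw [show (Cartier57.evalMap G) y = 0 from this]
      exact zero_smul K _
  ext a
  show ℓ.toFun a = 0
  let b := a - Cartier57.strMap G (Cartier57.evalMap G a)
  have hb : b ∈ maximalIdeal O := by
    rw [← ker_evalMap G, RingHom.mem_ker, map_sub, Tangent.ev_str, sub_self]
  have e : a = b + Cartier57.strMap G (Cartier57.evalMap G a) := (sub_add_cancel _ _).symm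
  rw [e, ℓ.map_add, ℓ.map_const, add_zero, hkill b hb]

/-- with one-dimensional tangent space a morphism is injective or zero on tangent vectors -/
theorem pt_comp_eq_one_of_not_injTan [LocallyOfFiniteType G.hom] [Smooth G.hom]
    (hdim : ringKrullDim (G.left.presheaf.stalk (unitPt G)) = 1) {f : G ⟶ H} (hf : ¬ InjTan f)
    (ℓ : Tangent.Tan G K) : ℓ.pt ≫ f = 1 := by
  let O := G.left.presheaf.stalk (unitPt G)
  haveI : IsRegularLocalRing O := (regular_unit_iff G).2 inferInstance
  have hsr : (((maximalIdeal O).spanFinrank : ℕ) : WithBot ℕ∞) = 1 := by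
    rw [IsRegularLocalRing.spanFinrank_maximalIdeal, hdim]
  have h1 : (maximalIdeal O).spanFinrank = 1 := by exact_mod_cast hsr
  obtain ⟨t, ht⟩ : ∃ t, maximalIdeal O = Ideal.span {t} :=
    ((Submodule.spanFinrank_eq_one_iff _).1 h1).1.principal
  have hev_t : Cartier57.evalMap G t = 0 := by
    have : t ∈ RingHom.ker (Cartier57.evalMap G).hom := by
      rw [ker_evalMap G]
      exact ht ▸ Ideal.mem_span_singleton_self t
    exact this
  have hdet : ∀ m m' : Tangent.Tan G K, m.toFun t = m'.toFun t → m = m' := by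
    intro m m' h
    ext a
    have hb : a - Cartier57.strMap G (Cartier57.evalMap G a) ∈ maximalIdeal O := by
      rw [← ker_evalMap G, RingHom.mem_ker, map_sub, Tangent.ev_str, sub_self]
    rw [ht, Ideal.mem_span_singleton'] at hb
    obtain ⟨c, hc⟩ := hb
    have e : a = c * t + Cartier57.strMap G (Cartier57.evalMap G a) := by rw [hc, sub_add_cancel]
    rw [e, m.map_add, m'.map_add, m.map_mul, m'.map_mul, m.map_const, m'.map_const, hev_t, h]
    simp
  rw [InjTan] at hf
  push Not at hf
  obtain ⟨ℓ₀, h₀, hne⟩ := hf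
  have ht0 : ℓ₀.toFun t ≠ 0 := fun h => hne (hdet ℓ₀ Tangent.Tan.zero h)
  have e : ℓ = ℓ₀.comp ((ℓ.toFun t / ℓ₀.toFun t) • LinearMap.id) := hdet _ _ (by
    show ℓ.toFun t = ((ℓ.toFun t / ℓ₀.toFun t) • LinearMap.id) (ℓ₀.toFun t)
    simp [ht0])
  rw [e, ← Tangent.along_pt, Category.assoc, h₀, MonObj.comp_one]

/-- etale near the unit plus compatibility with translations gives etale -/
theorem etale_of_near_unit [IsAlgClosed K] [LocallyOfFiniteType G.hom] [LocallyOfFiniteType H.hom]
    {f : G ⟶ H}
    (hf : ∀ s : 𝟙_ _ ⟶ G, (Var76.ActTrans.lTrans s).hom ≫ f = f ≫ (Var76.ActTrans.lTrans (s ≫ f)).hom)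
    {U : G.left.Opens} (hU : unitPt G ∈ U) (hUe : Etale (U.ι ≫ f.left)) : Etale f.left := by
  haveI := hUe
  haveI := LocallyOfFiniteType.jacobsonSpace G.hom
  suffices H : ∀ x : G.left, ∃ V : G.left.Opens, x ∈ V ∧ Etale (V.ι ≫ f.left) by
    choose V hxV hV using H
    exact IsZariskiLocalAtSource.of_iSup_eq_top (P := (@Etale : MorphismProperty Scheme.{u})) V
      (top_le_iff.1 fun x _ => TopologicalSpace.Opens.mem_iSup.2 ⟨x, hxV x⟩) hV
  intro x
  obtain ⟨z, hxz, hz⟩ := exists_closed_specialization x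
  obtain ⟨s, hs⟩ := Var76.ActTrans.exists_lTrans_eq (unitPt G) z (isClosed_unitPt G) hz
  let t := Var76.ActTrans.lTrans s
  haveI : IsIso t.hom.left := ((Over.forget _).mapIso t).isIso_hom
  haveI : IsIso t.inv.left := ((Over.forget _).mapIso t).isIso_inv
  let t' := Var76.ActTrans.lTrans (s ≫ f)
  haveI : IsIso t'.hom.left := ((Over.forget _).mapIso t').isIso_hom
  have hcomm : t.hom ≫ f = f ≫ t'.hom := hf s
  let U' := t.inv.left ⁻¹ᵁ U
  have hzU : z ∈ U' := by
    show t.inv.left z ∈ U
    rw [← hs, ← Scheme.Hom.comp_apply, ← Over.comp_left]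
    show (t.hom ≫ t.inv).left (unitPt G) ∈ U
    rw [t.hom_inv_id]
    exact hU
  have e : f = t.inv ≫ f ≫ t'.hom := by rw [← hcomm, Iso.inv_hom_id_assoc]
  have e' : f.left = t.inv.left ≫ f.left ≫ t'.hom.left := congrArg CommaMorphism.left e
  have key : U'.ι ≫ f.left = (t.inv.left ∣_ U) ≫ (U.ι ≫ f.left) ≫ t'.hom.left := by
    rw [Category.assoc, morphismRestrict_ι_assoc, ← e']
  refine ⟨U', hxz.mem_open U'.2 hzU, ?_⟩
  rw [key]
  infer_instance

theorem lTrans_comp_of_isMonHom (f : G ⟶ H) [IsMonHom f] (s : 𝟙_ _ ⟶ G) :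
    (Var76.ActTrans.lTrans s).hom ≫ f = f ≫ (Var76.ActTrans.lTrans (s ≫ f)).hom := by
  rw [Var76.ActTrans.comp_lTrans]
  show ((toUnit G ≫ s) * 𝟙 G) ≫ f = _
  rw [MonObj.mul_comp, Category.id_comp, Category.assoc]

theorem lTrans_comp_mul [IsCommMonObj H] (f g : G ⟶ H) [IsMonHom f] [IsMonHom g] (s : 𝟙_ _ ⟶ G) :
    (Var76.ActTrans.lTrans s).hom ≫ (f * g) = (f * g) ≫ (Var76.ActTrans.lTrans (s ≫ (f * g))).hom := by
  rw [MonObj.comp_mul, lTrans_comp_of_isMonHom, lTrans_comp_of_isMonHom, Var76.ActTrans.comp_lTrans,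
    Var76.ActTrans.comp_lTrans, Var76.ActTrans.comp_lTrans, MonObj.comp_mul, MonObj.comp_mul]
  exact mul_mul_mul_comm _ _ _ _

theorem eta_comp_mul (f g : G ⟶ H) [IsMonHom f] [IsMonHom g] : η[G] ≫ (f * g) = η[H] := by
  rw [MonObj.comp_mul, IsMonHom.one_hom, IsMonHom.one_hom]
  simp [Hom.one_def]

theorem main [IsAlgClosed K]
    (E₁ E₂ : Over (Spec (CommRingCat.of K)))
    [GrpObj E₁] [IsProper E₁.hom] [Smooth E₁.hom] [IsIntegral E₁.left] (hE₁ : topologicalKrullDim E₁.left = 1)
    [GrpObj E₂] [IsProper E₂.hom] [Smooth E₂.hom] [IsIntegral E₂.left] (hE₂ : topologicalKrullDim E₂.left = 1)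
    (φ φ' : E₁ ⟶ E₂) [IsMonHom φ] [IsMonHom φ'] [Etale φ.left] (hφ' : ¬ Etale φ'.left) :
    IsFinite (φ * φ').left ∧ Surjective (φ * φ').left ∧ Etale (φ * φ').left := by
  haveI : CompactSpace E₁.left := QuasiCompact.compactSpace_of_compactSpace E₁.hom
  haveI : CompactSpace E₂.left := QuasiCompact.compactSpace_of_compactSpace E₂.hom
  have d₁ := EGA73.ringKrullDim_stalk_eq_one hE₁ (unitPt E₁) (isClosed_unitPt E₁)
  have d₂ := EGA73.ringKrullDim_stalk_eq_one hE₂ (unitPt E₂) (isClosed_unitPt E₂)
  have hd := d₁.trans d₂.symm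
  haveI := AbSch7.geometricallyReduced_of_smooth E₂.hom
  haveI : IsCommMonObj E₂ := Alb96.isCommMonObj_of_connected E₂
  have hn : ¬ InjTan φ' := by
    intro h
    obtain ⟨U, hU, hUe⟩ := exists_etale_of_injTan (IsMonHom.one_hom φ') hd h
    exact hφ' (etale_of_near_unit (lTrans_comp_of_isMonHom φ') hU hUe)
  have hinj : InjTan (φ * φ') := by
    intro ℓ hℓ
    rw [MonObj.comp_mul, pt_comp_eq_one_of_not_injTan d₁ hn ℓ, _root_.mul_one] at hℓ
    exact injTan_of_etale (IsMonHom.one_hom φ) ℓ hℓ
  obtain ⟨U, hU, hUe⟩ := exists_etale_of_injTan (eta_comp_mul φ φ') hd hinj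
  haveI het : Etale (φ * φ').left := etale_of_near_unit (lTrans_comp_mul φ φ') hU hUe
  haveI : IsProper ((φ * φ').left ≫ E₂.hom) := by rw [Over.w]; infer_instance
  haveI : IsProper (φ * φ').left := IsProper.of_comp _ E₂.hom
  haveI := Unr55.locallyQuasiFinite_of_formallyUnramified (φ * φ').left
  refine ⟨IsFinite.of_isProper_of_locallyQuasiFinite _, ⟨?_⟩, het⟩
  have hopen : IsOpen (Set.range (φ * φ').left) := (φ * φ').left.isOpenMap.isOpen_range
  have hclosed : IsClosed (Set.range (φ * φ').left) := (φ * φ').left.isClosedMap.isClosed_range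
  exact Set.range_eq_univ.1 (IsClopen.eq_univ ⟨hclosed, hopen⟩ (Set.range_nonempty _))

end Groth.Agent.EllEt95
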